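import Cfsg.Agent.H473.K547.Alt
import Cfsg.Agent.TypeM.OutLyFin
import Cfsg.Agent.TypeM.FactsAut

/-!
# S4547, the row of the Lyons group (helper473, task 5058)

`C(t) = 2.A₁₁` has odd index and maps onto `A₁₁`; all automorphisms are inner.
-/

set_option autoImplicit false
set_option linter.unusedSectionVars false

namespace Cfsg.Agent.H473.K547

open Subgroup Cfsg Cfsg.Agent.H601.K4 Cfsg.Agent.H821.K547 Cfsg.Agent.TypeM.Two

universe u v

theorem rk_of_surj {n : ℕ} {P : Type u} {P' : Type v} [Group P] [Group P'] (f : P →* P')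
    (hf : Function.Surjective f) (h : Rk n P') : Rk n P := by
  obtain ⟨g, hg⟩ := h
  exact ⟨g.comp f, hg.comp hf⟩

/-- **odd index, onto a group whose Sylow 2-subgroups need three generators** -/
theorem d3_of_map {G : Type u} [Group G] [Finite G] {Y : Type v} [Group Y] [Finite Y] (M : Subgroup G)
    (hM : ¬ 2 ∣ M.index) (f : M →* Y) (hf : Function.Surjective f) (hY : D3 Y) : D3 G := by
  intro Q
  have : Fact (Nat.Prime 2) := ⟨Nat.prime_two⟩
  obtain ⟨S⟩ : Nonempty (Sylow 2 M) := inferInstance
  have hS : IsPGroup 2 ↥((S : Subgroup M).map M.subtype) := S.isPGroup'.map _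
  have hc : ¬ 2 ∣ ((S : Subgroup M).map M.subtype).index := by
    rw [← relIndex_mul_index (map_subtype_le (S : Subgroup M)), Nat.prime_two.dvd_mul, not_or]
    refine ⟨?_, hM⟩
    have h1 : ((S : Subgroup M).map M.subtype).relIndex M = (S : Subgroup M).index := by
      rw [relIndex, subgroupOf, comap_map_eq_self_of_injective M.subtype_injective]
    rw [h1]
    exact S.not_dvd_index
  let P : Sylow 2 G := hS.toSylow hc
  let e1 : Q ≃* P := Sylow.equiv Q P
  let e2 : ↥(S : Subgroup M) ≃* ↥((S : Subgroup M).map M.subtype) :=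
    (S : Subgroup M).equivMapOfInjective M.subtype M.subtype_injective
  let T : Sylow 2 Y := S.mapSurjective hf
  let f' : ↥(S : Subgroup M) →* ↥((S : Subgroup M).map f) := f.subgroupMap _
  have hT : Rk 3 ↥((S : Subgroup M).map f) := hY T
  have h1 : Rk 3 ↥(S : Subgroup M) := rk_of_surj f' (f.subgroupMap_surjective _) hT
  have h2 : Rk 3 ↥((S : Subgroup M).map M.subtype) := rk_of_surj e2.symm.toMonoidHom e2.symm.surjective h1
  exact rk_of_surj e1.toMonoidHom e1.surjective h2

/-- groups with `C(t) = 2.A_n` of odd index -/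
theorem d3_of_mt {n : ℕ} {K : Type u} [Group K] [Finite K] (L : MT n K)
    (hi : ¬ 2 ∣ (centralizer ({L.t} : Set K)).index) (hA : D3 (alternatingGroup (Fin n))) : D3 K := by
  let f : centralizer ({L.t} : Set K) →* alternatingGroup (Fin n) :=
    L.K.π.codRestrict (alternatingGroup (Fin n)) fun c => by rw [← L.K.range_eq]; exact ⟨c, rfl⟩
  have hf : Function.Surjective f := by
    rintro ⟨σ, hσ⟩
    rw [← L.K.range_eq] at hσ
    obtain ⟨c, hc⟩ := hσ
    exact ⟨c, Subtype.ext hc⟩
  exact d3_of_map _ hi f hf hA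

/-- the index of `C(t)` is odd -/
theorem odd_index {K : Type u} [Group K] [Finite K] (hcard : Nat.card K = 51765179004000000) (L : MT 11 K) :
    ¬ 2 ∣ (centralizer ({L.t} : Set K)).index := by
  have h1 := (centralizer ({L.t} : Set K)).card_mul_index
  rw [Cfsg.Agent.TypeM.FactsAut.card_centralizer L (by norm_num), hcard,
    show (11 : ℕ).factorial = 39916800 from rfl] at h1
  have h2 : (centralizer ({L.t} : Set K)).index = 1296826875 := by omega
  rw [h2]
  norm_num

/-- **The row of `Ly`** from the good characters and the row of `A₁₁` -/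
theorem row_of {S : Type u} [Group S] (h : Spor.IsoLy S) (hg : Good5 S)
    (hA : D3 (alternatingGroup (Fin 11))) : Row S := by
  obtain ⟨hfin, -, hcard, ⟨L⟩⟩ := Cfsg.Agent.TypeM.FactsLy.facts h
  refine ⟨Or.inl ⟨hg, d3_of_mt L (odd_index hcard L) hA⟩, fun τ _ hτ => ?_⟩
  exfalso
  obtain ⟨s, hs⟩ := Cfsg.Agent.TypeM.OutLyFin.inner h τ
  exact hτ ⟨s, fun x => by rw [← hs]; rfl⟩

/-- **The row of `Ly`** from the good characters -/
theorem row_of_good {S : Type u} [Group S] (h : Spor.IsoLy S) (hg : Good5 S) : Row S :=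
  row_of h hg (d3_alt (by norm_num))

end Cfsg.Agent.H473.K547
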