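import Cfsg.Agent.H473.K547.Elem
import Cfsg.Agent.S4623

/-!
# S4547: the Sylow 2-subgroups of the alternating groups (helper473)

`d3_alt` : `D3 (A_n)` for `n ≥ 8`; `d3_perm` : `D3 (S_n)` for `n ≥ 6`.
-/

set_option autoImplicit false
set_option linter.unusedSectionVars false

namespace Cfsg.Agent.H473.K547

open Subgroup Cfsg Cfsg.Agent.H821.K547 Equiv

/-- an elementary abelian group of order 8 -/
def pe (a b c : ZMod 2) : Perm (Fin 8) :=
  (if a = 1 then swap 0 1 else 1) * (if b = 1 then swap 2 3 else 1) * (if c = 1 then swap 4 5 else 1) *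
    (if a + b + c = 1 then swap 6 7 else 1)

theorem pe_mul : ∀ a b c a' b' c' : ZMod 2, pe (a + a') (b + b') (c + c') = pe a b c * pe a' b' c' := by
  decide +kernel

theorem pe_inj : ∀ a b c : ZMod 2, pe a b c = 1 → a = 0 ∧ b = 0 ∧ c = 0 := by
  decide +kernel

theorem pe_sign : ∀ a b c : ZMod 2, Perm.sign (pe a b c) = 1 := by
  decide +kernel

/-- an elementary abelian group of order 8 -/
def ps (a b c : ZMod 2) : Perm (Fin 6) :=
  (if a = 1 then swap 0 1 else 1) * (if b = 1 then swap 2 3 else 1) * (if c = 1 then swap 4 5 else 1)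

theorem ps_mul : ∀ a b c a' b' c' : ZMod 2, ps (a + a') (b + b') (c + c') = ps a b c * ps a' b' c' := by
  decide +kernel

theorem ps_inj : ∀ a b c : ZMod 2, ps a b c = 1 → a = 0 ∧ b = 0 ∧ c = 0 := by
  decide +kernel

section

variable {m n : ℕ}

/-- `S_m ≤ S_n` -/
noncomputable def emb (h : m ≤ n) : Perm (Fin m) →* Perm (Fin n) :=
  Perm.extendDomainHom (Fin.castLEEmb h).toEquivRange

theorem emb_injective (h : m ≤ n) : Function.Injective (emb h) := Perm.extendDomainHom_injective _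

theorem sign_emb (h : m ≤ n) (σ : Perm (Fin m)) : Perm.sign (emb h σ) = Perm.sign σ :=
  Perm.sign_extendDomain _ _

end

/-- the elementary abelian group of order 8 -/
abbrev V8 : Type := Multiplicative (ZMod 2 × ZMod 2 × ZMod 2)

theorem card_V8 : Nat.card V8 = 8 := by
  rw [Nat.card_eq_fintype_card]
  rfl

theorem sq_V8 : ∀ v : V8, v ^ 2 = 1 := by decide

/-- the elementary abelian subgroup -/
noncomputable def homA {n : ℕ} (hn : 8 ≤ n) : V8 →* alternatingGroup (Fin n) :=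
  { toFun := fun v => ⟨emb hn (pe v.toAdd.1 v.toAdd.2.1 v.toAdd.2.2), by
      rw [Perm.mem_alternatingGroup, sign_emb, pe_sign]⟩
    map_one' := Subtype.ext (by
      have h : pe 0 0 0 = 1 := by decide
      show emb hn (pe 0 0 0) = 1
      rw [h, map_one])
    map_mul' := fun v w => Subtype.ext (by
      show emb hn (pe (v.toAdd.1 + w.toAdd.1) (v.toAdd.2.1 + w.toAdd.2.1) (v.toAdd.2.2 + w.toAdd.2.2)) =
        emb hn (pe v.toAdd.1 v.toAdd.2.1 v.toAdd.2.2) * emb hn (pe w.toAdd.1 w.toAdd.2.1 w.toAdd.2.2)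
      rw [pe_mul, map_mul]) }

theorem homA_injective {n : ℕ} (hn : 8 ≤ n) : Function.Injective (homA hn) := by
  rw [injective_iff_map_eq_one]
  intro v hv
  have h1 : emb hn (pe v.toAdd.1 v.toAdd.2.1 v.toAdd.2.2) = 1 := congrArg Subtype.val hv
  have h2 := emb_injective hn (h1.trans (map_one (emb hn)).symm)
  obtain ⟨h3, h4, h5⟩ := pe_inj _ _ _ h2
  exact Multiplicative.toAdd.injective (Prod.ext h3 (Prod.ext h4 h5))

/-- **`A_n`, `n ≥ 8`** -/
theorem d3_alt {n : ℕ} (hn : 8 ≤ n) : D3 (alternatingGroup (Fin n)) := by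
  have : Fact (Nat.Prime 2) := ⟨Nat.prime_two⟩
  refine d3_of_elementary (fun P x => (Cfsg.Agent.S4623.result 2 n default P).2 x) (E := (homA hn).range) ?_ ?_
  · rw [← Nat.card_congr (MonoidHom.ofInjective (homA_injective hn)).toEquiv, card_V8]
  · rintro _ ⟨v, rfl⟩
    rw [← map_pow, sq_V8, map_one]

/-- the elementary abelian subgroup -/
noncomputable def homS {n : ℕ} (hn : 6 ≤ n) : V8 →* Perm (Fin n) :=
  { toFun := fun v => emb hn (ps v.toAdd.1 v.toAdd.2.1 v.toAdd.2.2)
    map_one' := by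
      have h : ps 0 0 0 = 1 := by decide
      show emb hn (ps 0 0 0) = 1
      rw [h, map_one]
    map_mul' := fun v w => by
      show emb hn (ps (v.toAdd.1 + w.toAdd.1) (v.toAdd.2.1 + w.toAdd.2.1) (v.toAdd.2.2 + w.toAdd.2.2)) =
        emb hn (ps v.toAdd.1 v.toAdd.2.1 v.toAdd.2.2) * emb hn (ps w.toAdd.1 w.toAdd.2.1 w.toAdd.2.2)
      rw [ps_mul, map_mul] }

theorem homS_injective {n : ℕ} (hn : 6 ≤ n) : Function.Injective (homS hn) := by
  rw [injective_iff_map_eq_one]
  intro v hv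
  have h1 : emb hn (ps v.toAdd.1 v.toAdd.2.1 v.toAdd.2.2) = 1 := hv
  have h2 := emb_injective hn (h1.trans (map_one (emb hn)).symm)
  obtain ⟨h3, h4, h5⟩ := ps_inj _ _ _ h2
  exact Multiplicative.toAdd.injective (Prod.ext h3 (Prod.ext h4 h5))

/-- **`S_n`, `n ≥ 6`** -/
theorem d3_perm {n : ℕ} (hn : 6 ≤ n) : D3 (Perm (Fin n)) := by
  have : Fact (Nat.Prime 2) := ⟨Nat.prime_two⟩
  refine d3_of_elementary (fun P x => (Cfsg.Agent.S4623.result 2 n P default).1 x) (E := (homS hn).range) ?_ ?_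
  · rw [← Nat.card_congr (MonoidHom.ofInjective (homS_injective hn)).toEquiv, card_V8]
  · rintro _ ⟨v, rfl⟩
    rw [← map_pow, sq_V8, map_one]

end Cfsg.Agent.H473.K547
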