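import Cfsg.Agent.H821.K547.Defs
import Cfsg.Agent.H362.Dl.SixtyFour

/-!
# S4547, tool T3 (helper473)

* `rk_of_card` : `x ^ 2 ∈ P'` for all `x`, `8 ≤ |P : P'|` : `Rk 3 P`;
* `exists_cyclic` : a finite 2-group with `x ^ 2 ∈ P'` for all `x` and `|P : P'| ≤ 4` has a cyclic subgroup of index at
  most two;
* `not_elementary` : such a group has no elementary abelian subgroup of order 8;
* `d3_of_elementary` : the Sylow 2-subgroups satisfy `x ^ 2 ∈ P'` and `G` has an elementary abelian subgroup of order 8:
  `D3 G`; `d3_of_elementary_quot` : the same for a quotient.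
-/

set_option autoImplicit false
set_option linter.unusedSectionVars false

namespace Cfsg.Agent.H473.K547

open Subgroup Cfsg Cfsg.Agent.H821.K547

universe u v

section

variable {P : Type u} [Group P] [Finite P]

theorem rk_of_card (h : ∀ x : P, x ^ 2 ∈ commutator P) (hc : 8 ≤ Nat.card (P ⧸ commutator P)) : Rk 3 P := by
  let A := Additive (Abelianization P)
  have h2 : ∀ a : A, (2 : ℕ) • a = 0 := by
    intro a
    obtain ⟨x, hx⟩ := QuotientGroup.mk_surjective (Additive.toMul a : Abelianization P)
    have h3 : (Additive.toMul a : Abelianization P) ^ 2 = 1 := by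
      rw [← hx]
      exact (QuotientGroup.eq_one_iff (x ^ 2)).2 (h x)
    exact h3
  let _ : Module (ZMod 2) A := AddCommGroup.zmodModule h2
  have hfin : Finite A := inferInstanceAs (Finite (P ⧸ commutator P))
  have hfd : FiniteDimensional (ZMod 2) A := Module.Finite.of_finite
  have hcard : Nat.card A = 2 ^ Module.finrank (ZMod 2) A := by
    have := Module.natCard_eq_pow_finrank (K := ZMod 2) (V := A)
    rwa [Nat.card_zmod] at this
  have h8 : 2 ^ 3 ≤ 2 ^ Module.finrank (ZMod 2) A := by
    rw [← hcard]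
    exact hc
  have h3 : 3 ≤ Module.finrank (ZMod 2) A := (Nat.pow_le_pow_iff_right (by norm_num)).1 h8
  let b := Module.finBasis (ZMod 2) A
  let F : A →ₗ[ZMod 2] (Fin 3 → ZMod 2) :=
    (LinearMap.funLeft (ZMod 2) (ZMod 2) (Fin.castLE h3)).comp b.equivFun.toLinearMap
  have hF : Function.Surjective F :=
    (LinearMap.funLeft_surjective_of_injective (ZMod 2) (ZMod 2) _ (Fin.castLE_injective h3)).comp b.equivFun.surjective
  let f : P →* Multiplicative (Fin 3 → ZMod 2) :=
    { toFun := fun x => Multiplicative.ofAdd (F (Additive.ofMul (Abelianization.of x)))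
      map_one' := by rw [map_one, ofMul_one, map_zero, ofAdd_zero]
      map_mul' := fun x y => by rw [map_mul, ofMul_mul, map_add, ofAdd_add] }
  refine ⟨f, fun v => ?_⟩
  obtain ⟨a, ha⟩ := hF (Multiplicative.toAdd v)
  obtain ⟨x, hx⟩ := QuotientGroup.mk_surjective (Additive.toMul a : Abelianization P)
  refine ⟨x, ?_⟩
  change Multiplicative.ofAdd (F (Additive.ofMul (Abelianization.of x))) = v
  have h4 : (Abelianization.of x : Abelianization P) = Additive.toMul a := hx
  rw [h4, ofMul_toMul, ha, ofAdd_toAdd]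

theorem exists_cyclic {n : ℕ} (hn : Nat.card P = 2 ^ n) (h : ∀ x : P, x ^ 2 ∈ commutator P)
    (hc : Nat.card (P ⧸ commutator P) < 8) : ∃ C : Subgroup P, IsCyclic C ∧ C.index ≤ 2 := by
  have hf : Fact (Nat.Prime 2) := ⟨Nat.prime_two⟩
  have hP : IsPGroup 2 P := IsPGroup.iff_card.2 ⟨n, hn⟩
  have hnil : Group.IsNilpotent P := hP.isNilpotent
  obtain ⟨k, hk⟩ := (Nat.dvd_prime_pow Nat.prime_two).1 (hn ▸ Subgroup.card_quotient_dvd_card (commutator P))
  have hk3 : k < 3 := by
    by_contra hcon
    push Not at hcon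
    have := Nat.pow_le_pow_right (show 0 < 2 by norm_num) hcon
    omega
  by_cases hcyc : IsCyclic P
  · refine ⟨⊤, ?_, by rw [index_top]; norm_num⟩
    exact isCyclic_of_surjective (Subgroup.topEquiv : (⊤ : Subgroup P) ≃* P).symm.toMonoidHom
      (Subgroup.topEquiv : (⊤ : Subgroup P) ≃* P).symm.surjective
  · have hncyc : ¬ IsCyclic (P ⧸ commutator P) := fun h1 =>
      hcyc (Cfsg.Agent.H362.Dl.isCyclic_of_abelianization hnil h1)
    have hk2 : k = 2 := by
      interval_cases k
      · exfalso
        apply hncyc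
        have : Subsingleton (P ⧸ commutator P) := (Nat.card_eq_one_iff_unique.1 (by simpa using hk.2)).1
        infer_instance
      · exfalso
        apply hncyc
        exact isCyclic_of_prime_card (p := 2) (by simpa using hk.2)
      · rfl
    have h4 : Nat.card (P ⧸ commutator P) = 4 := by rw [hk.2, hk2]; norm_num
    by_cases hn3 : 3 ≤ n
    · have hkl : IsKleinFour (P ⧸ commutator P) := by
        refine ⟨h4, ?_⟩
        have hd : Monoid.exponent (P ⧸ commutator P) ∣ 2 := by
          refine Monoid.exponent_dvd_of_forall_pow_eq_one fun a => ?_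
          obtain ⟨x, rfl⟩ := QuotientGroup.mk_surjective a
          exact (QuotientGroup.eq_one_iff (x ^ 2)).2 (h x)
        rcases (Nat.dvd_prime Nat.prime_two).1 hd with h1 | h1
        · exfalso
          have : Subsingleton (P ⧸ commutator P) := Monoid.exp_eq_one_iff.1 h1
          have h5 : Nat.card (P ⧸ commutator P) = 1 := Nat.card_of_subsingleton (1 : P ⧸ commutator P)
          omega
        · exact h1
      obtain ⟨C, hC, hi⟩ := Cfsg.Agent.S0113.result n hn3 hn ((Cfsg.Agent.S0115.result n hn3 hn).2 hkl)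
      exact ⟨C, hC, hi.le⟩
    · have hn2 : Nat.card P ≤ 4 := by
        rw [hn]
        calc 2 ^ n ≤ 2 ^ 2 := Nat.pow_le_pow_right (by norm_num) (by omega)
          _ = 4 := by norm_num
      have hnt : Nontrivial P := by
        by_contra hcon
        have := not_nontrivial_iff_subsingleton.1 hcon
        exact hcyc inferInstance
      obtain ⟨x, hx⟩ := exists_ne (1 : P)
      refine ⟨zpowers x, inferInstance, ?_⟩
      have h5 := (zpowers x).card_mul_index
      have h6 : 2 ≤ Nat.card (zpowers x) := by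
        have h7 : 1 < Nat.card (zpowers x) := by
          rw [Subgroup.one_lt_card_iff_ne_bot, Ne, zpowers_eq_bot]
          exact hx
        omega
      by_contra hcon
      push Not at hcon
      have : 2 * 3 ≤ Nat.card (zpowers x) * (zpowers x).index := Nat.mul_le_mul h6 hcon
      omega

/-- a cyclic subgroup of index at most two meets an elementary abelian group of order 8 in a noncyclic group -/
theorem not_elementary {C E : Subgroup P} (hC : IsCyclic C) (hi : C.index ≤ 2) (hE : Nat.card E = 8)
    (h2 : ∀ x ∈ E, x ^ 2 = 1) : False := by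
  have h0 : C.index ≠ 0 := index_ne_zero_of_finite
  have h1 : (C ⊓ E).relIndex E ≤ C.index := by
    rw [inf_relIndex_right, ← relIndex_top_right]
    exact relIndex_le_of_le_right le_top (by rw [relIndex_top_right]; exact h0)
  have h3 : Nat.card ↥(C ⊓ E : Subgroup P) * (C ⊓ E).relIndex E = 8 := by
    rw [← hE, ← ((C ⊓ E).subgroupOf E).card_mul_index,
      Nat.card_congr (subgroupOfEquivOfLe (inf_le_right : C ⊓ E ≤ E)).toEquiv]
    rfl
  have h4 : 4 ≤ Nat.card ↥(C ⊓ E : Subgroup P) := by
    by_contra hcon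
    push Not at hcon
    have : Nat.card ↥(C ⊓ E : Subgroup P) * (C ⊓ E).relIndex E ≤ 3 * 2 :=
      Nat.mul_le_mul (by omega) (h1.trans hi)
    omega
  -- a cyclic group has at most two solutions of `x ^ 2 = 1`
  have h5 : Nat.card {x : C // x ^ 2 = 1} ≤ 2 := by
    classical
    have : Fintype C := Fintype.ofFinite _
    have h6 := IsCyclic.card_pow_eq_one_le (α := C) (n := 2) (by norm_num)
    rw [Nat.card_eq_fintype_card, Fintype.card_subtype]
    exact h6
  let g : ↥(C ⊓ E : Subgroup P) → {x : C // x ^ 2 = 1} := fun x =>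
    ⟨⟨x, (mem_inf.1 x.2).1⟩, Subtype.ext (h2 x (mem_inf.1 x.2).2)⟩
  have hg : Function.Injective g := fun x y hxy => Subtype.ext
    (congrArg (fun z : {x : C // x ^ 2 = 1} => ((z : C) : P)) hxy)
  have h7 := Nat.card_le_card_of_injective g hg
  omega

end

theorem rk_congr {n : ℕ} {P : Type u} {P' : Type v} [Group P] [Group P'] (e : P ≃* P') (h : Rk n P') : Rk n P := by
  obtain ⟨g, hg⟩ := h
  exact ⟨g.comp e.toMonoidHom, hg.comp e.surjective⟩

/-- a 2-group with `x ^ 2 ∈ P'` for all `x` and an elementary abelian subgroup of order 8 -/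
theorem rk_of_elementary {P : Type u} [Group P] [Finite P] {n : ℕ} (hn : Nat.card P = 2 ^ n)
    (h : ∀ x : P, x ^ 2 ∈ commutator P) {E : Subgroup P} (hE : Nat.card E = 8) (h2 : ∀ x ∈ E, x ^ 2 = 1) :
    Rk 3 P := by
  by_cases hc : 8 ≤ Nat.card (P ⧸ commutator P)
  · exact rk_of_card h hc
  · exfalso
    obtain ⟨C, hC, hi⟩ := exists_cyclic hn h (by omega)
    exact not_elementary hC hi hE h2

/-- **T3** -/
theorem d3_of_elementary {G : Type u} [Group G] [Finite G]
    (h : ∀ (P : Sylow 2 G) (x : (P : Subgroup G)), x ^ 2 ∈ commutator ↥(P : Subgroup G)) {E : Subgroup G}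
    (hE : Nat.card E = 8) (h2 : ∀ x ∈ E, x ^ 2 = 1) : D3 G := by
  intro Q
  have : Fact (Nat.Prime 2) := ⟨Nat.prime_two⟩
  have hEp : IsPGroup 2 E := IsPGroup.of_card (n := 3) (by rw [hE]; norm_num)
  obtain ⟨P, hP⟩ := hEp.exists_le_sylow
  obtain ⟨n, hn⟩ := IsPGroup.iff_card.1 P.isPGroup'
  refine rk_congr (Sylow.equiv Q P) (rk_of_elementary (P := ↥(P : Subgroup G)) (n := n) hn (h P)
    (E := E.subgroupOf P) ?_ ?_)
  · rw [Nat.card_congr (subgroupOfEquivOfLe hP).toEquiv, hE]
  · intro x hx
    exact Subtype.ext (h2 x (mem_subgroupOf.1 hx))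

/-- **T3 for quotients** -/
theorem d3_of_elementary_quot {G : Type u} [Group G] [Finite G] {Y : Type v} [Group Y] [Finite Y] (f : G →* Y)
    (hf : Function.Surjective f)
    (h : ∀ (P : Sylow 2 G) (x : (P : Subgroup G)), x ^ 2 ∈ commutator ↥(P : Subgroup G)) {E : Subgroup Y}
    (hE : Nat.card E = 8) (h2 : ∀ x ∈ E, x ^ 2 = 1) : D3 Y := by
  have : Fact (Nat.Prime 2) := ⟨Nat.prime_two⟩
  refine d3_of_elementary (fun P x => ?_) hE h2
  -- the Sylow subgroups of `Y` are images
  obtain ⟨S⟩ : Nonempty (Sylow 2 G) := inferInstance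
  let T : Sylow 2 Y := S.mapSurjective hf
  have hT : ∀ y : ↥((S : Subgroup G).map f), y ^ 2 ∈ commutator ↥((S : Subgroup G).map f) := by
    intro y
    obtain ⟨s, rfl⟩ := f.subgroupMap_surjective (S : Subgroup G) y
    rw [← map_pow]
    have h1 := Subgroup.mem_map_of_mem (f.subgroupMap (S : Subgroup G)) (h S s)
    have h3 : (commutator ↥(S : Subgroup G)).map (f.subgroupMap (S : Subgroup G)) ≤
        commutator ↥((S : Subgroup G).map f) := by
      rw [commutator_def, commutator_def, Subgroup.map_commutator]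
      exact Subgroup.commutator_mono le_top le_top
    exact h3 h1
  have e : ↥(P : Subgroup Y) ≃* ↥((S : Subgroup G).map f) := Sylow.equiv P T
  have h4 := Subgroup.mem_map_of_mem e.symm.toMonoidHom (hT (e x))
  have h5 : (commutator ↥((S : Subgroup G).map f)).map e.symm.toMonoidHom ≤ commutator ↥(P : Subgroup Y) := by
    rw [commutator_def, commutator_def, Subgroup.map_commutator]
    exact Subgroup.commutator_mono le_top le_top
  have h6 := h5 h4
  rw [map_pow] at h6
  have h7 : e.symm.toMonoidHom (e x) = x := e.symm_apply_apply x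
  rwa [h7] at h6

end Cfsg.Agent.H473.K547
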